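import Groth.Agent.H27Perf.Basic
import Groth.Prelude.Def_Frob
import Mathlib

/-!
# Frobenius twisted correspondences are contracting near invariant subschemes
-/

set_option autoImplicit false
set_option linter.style.haveILetI false

universe u

open CategoryTheory CategoryTheory.Limits AlgebraicGeometry FrobSch

namespace Groth.Agent.H27LVCorr

variable (p : ℕ) [Fact p.Prime]

/-- the `m`-th power of the absolute Frobenius -/
noncomputable abbrev fm (X : Scheme.{u}) [IsCharP X p] (m : ℕ) : X ⟶ X :=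
  End.asHom (End.of (frob X p) ^ m)

theorem fm_succ (X : Scheme.{u}) [IsCharP X p] (m : ℕ) : fm p X (m + 1) = frob X p ≫ fm p X m := by
  show End.asHom (End.of (frob X p) ^ (m + 1)) = _
  rw [pow_succ]
  rfl

theorem fm_comp {X Y : Scheme.{u}} [IsCharP X p] [IsCharP Y p] (f : X ⟶ Y) (m : ℕ) :
    fm p X m ≫ f = f ≫ fm p Y m := by
  induction m with
  | zero => exact (Category.id_comp f).trans (Category.comp_id f).symm
  | succ m ih => rw [fm_succ, fm_succ, Category.assoc, ih, ← Category.assoc, frob_comp, Category.assoc]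

theorem fm_apply (X : Scheme.{u}) [IsCharP X p] (m : ℕ) (x : X) : fm p X m x = x := by
  induction m generalizing x with
  | zero => rfl
  | succ m ih => rw [fm_succ, Scheme.Hom.comp_apply, frob_apply, ih]

instance quasiCompact_frob (X : Scheme.{u}) [IsCharP X p] : QuasiCompact (frob X p) :=
  ⟨fun U _ hU => hU⟩

theorem comap_frob_le {X : Scheme.{u}} [IsCharP X p] (M : X.IdealSheafData) : M.comap (frob X p) ≤ M ^ p := by
  rw [← Scheme.IdealSheafData.le_map_iff_comap_le]
  intro U s hs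
  rw [Scheme.IdealSheafData.ideal_map (M ^ p) (frob X p) U (U.2 : IsAffineOpen U.1)]
  show (frob X p).app U.1 s ∈ (M.ideal ^ p) U
  rw [frob_app, Pi.pow_apply]
  exact Ideal.pow_mem_pow hs p

theorem pow_mono {X : Scheme.{u}} {I J : X.IdealSheafData} (h : I ≤ J) (n : ℕ) : I ^ n ≤ J ^ n := fun U => by
  rw [Scheme.IdealSheafData.ideal_pow, Scheme.IdealSheafData.ideal_pow, Pi.pow_apply, Pi.pow_apply]
  exact Ideal.pow_right_mono (h U) n

theorem pow_pow' {X : Scheme.{u}} (I : X.IdealSheafData) (a b : ℕ) : (I ^ a) ^ b = I ^ (a * b) := by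
  ext U : 2
  simp [pow_mul]

theorem pow_anti {X : Scheme.{u}} (I : X.IdealSheafData) {a b : ℕ} (h : a ≤ b) : I ^ b ≤ I ^ a := fun U => by
  rw [Scheme.IdealSheafData.ideal_pow, Scheme.IdealSheafData.ideal_pow, Pi.pow_apply, Pi.pow_apply]
  exact Ideal.pow_le_pow_right h

theorem pow_one' {X : Scheme.{u}} (I : X.IdealSheafData) : I ^ 1 = I := by
  ext U : 2
  simp

theorem comap_fm_le {X : Scheme.{u}} [IsCharP X p] (M : X.IdealSheafData) (m : ℕ) :
    M.comap (fm p X m) ≤ M ^ p ^ m := by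
  induction m generalizing M with
  | zero =>
    rw [pow_zero, pow_one', show fm p X 0 = 𝟙 X from rfl, Scheme.IdealSheafData.comap_id]
  | succ m ih =>
    rw [fm_succ, Scheme.IdealSheafData.comap_comp, pow_succ, ← pow_pow']
    refine (comap_frob_le p _).trans (pow_mono ?_ p)
    exact ih M

theorem contracting_of_invariant {C X : Scheme.{u}} [IsCharP C p] (m : ℕ) (G : C ⟶ C) (c₁ c₂ : C ⟶ X)
    (I : X.IdealSheafData) (d : ℕ) (hd : (I.comap c₂).radical ^ d ≤ I.comap c₂) (hn : d < p ^ m)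
    (hinv : ((fm p C m ≫ G) ≫ c₁).base '' (c₂.base ⁻¹' (I.support : Set X)) ⊆ (I.support : Set X)) :
    I.comap ((fm p C m ≫ G) ≫ c₁) ≤ I.comap c₂ ∧
      I.comap ((fm p C m ≫ G) ≫ c₁) ^ d ≤ I.comap c₂ ^ (d + 1) := by
  let J := I.comap c₂
  let M := I.comap (G ≫ c₁)
  have hM : M ≤ J.radical := by
    rw [← Scheme.IdealSheafData.vanishingIdeal_support, ← Scheme.IdealSheafData.le_support_iff_le_vanishingIdeal]
    intro x hx
    simp only [J, M, SetLike.mem_coe, Scheme.IdealSheafData.support_comap] at hx ⊢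
    have := hinv ⟨x, hx, rfl⟩
    rw [Scheme.Hom.comp_apply, Scheme.Hom.comp_apply, fm_apply, ← Scheme.Hom.comp_apply] at this
    exact this
  have hL : I.comap ((fm p C m ≫ G) ≫ c₁) ≤ J.radical ^ p ^ m := by
    rw [Category.assoc, Scheme.IdealSheafData.comap_comp]
    exact (comap_fm_le p M m).trans (pow_mono hM _)
  refine ⟨(hL.trans (pow_anti _ hn.le)).trans hd, ?_⟩
  calc I.comap ((fm p C m ≫ G) ≫ c₁) ^ d ≤ (J.radical ^ p ^ m) ^ d := pow_mono hL d
    _ ≤ (J.radical ^ d) ^ (d + 1) := by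
      rw [pow_pow', pow_pow']
      refine pow_anti _ ?_
      rw [mul_comm (p ^ m)]
      exact Nat.mul_le_mul_left d hn
    _ ≤ J ^ (d + 1) := pow_mono hd _

/-- the geometric Frobenius is the absolute Frobenius followed by an endomorphism -/
theorem exists_twist {C C₀ : Scheme.{u}} (k₀ : Type u) [Field k₀] [Fintype k₀] [CharP k₀ p] (e : ℕ)
    (hq : Fintype.card k₀ = p ^ e) (K : Type u) [Field K] [Algebra k₀ K] [IsAlgClosure k₀ K]
    (f₀ : C₀ ⟶ Spec (CommRingCat.of k₀)) [FrobSch.IsCharP C₀ p] [FrobSch.IsCharP C p]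
    (πC₀ : C ⟶ C₀) (πK : C ⟶ Spec (CommRingCat.of K))
    (hC : IsPullback πC₀ πK f₀ (Spec.map (CommRingCat.ofHom (algebraMap k₀ K))))
    (n : ℕ) (Fr : C ⟶ C)
    (hFr₀ : Fr ≫ πC₀ = πC₀ ≫ End.asHom (End.of (FrobSch.frob C₀ p) ^ (e * n)))
    (hFrK : Fr ≫ πK = πK) :
    ∃ G : C ⟶ C, Fr = fm p C (e * n) ≫ G := by
  let Sk := Spec (CommRingCat.of k₀)
  let SK := Spec (CommRingCat.of K)
  haveI : IsCharP Sk p := H27Perf.isCharP_Spec_of_natCast (CharP.cast_eq_zero k₀ p)
  haveI : CharP K p := charP_of_injective_algebraMap (algebraMap k₀ K).injective p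
  haveI : IsCharP SK p := H27Perf.isCharP_Spec_of_natCast (CharP.cast_eq_zero K p)
  haveI : IsAlgClosed K := IsAlgClosure.isAlgClosed k₀
  haveI hperf : IsIso (frob SK p) :=
    H27Perf.isPerfect_Spec (p := p) (S := CommRingCat.of K) ⟨CharP.cast_eq_zero K p, PerfectRing.bijective_frobenius⟩
  have hiso : ∀ m, IsIso (fm p SK m) := fun m => by
    induction m with
    | zero => exact (inferInstance : IsIso (𝟙 SK))
    | succ m ih => rw [fm_succ]; infer_instance
  haveI := hiso (e * n)
  have hk : fm p Sk (e * n) = 𝟙 Sk := by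
    have hspec : ∀ m, fm p Sk m = Spec.map (CommRingCat.ofHom (iterateFrobenius k₀ p m)) := fun m => by
      induction m with
      | zero =>
        rw [show fm p Sk 0 = 𝟙 Sk from rfl, ← Spec.map_id]
        congr 1
        ext x
        simp [iterateFrobenius_def]
      | succ m ih =>
        rw [fm_succ, ih, H27Perf.frob_Spec, ← Spec.map_comp]
        congr 1
        ext x
        show (iterateFrobenius k₀ p m x) ^ p = iterateFrobenius k₀ p (m + 1) x
        simp only [iterateFrobenius_def, pow_succ, pow_mul]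
    rw [hspec, ← Spec.map_id]
    congr 1
    ext x
    show iterateFrobenius k₀ p (e * n) x = x
    rw [iterateFrobenius_def, pow_mul, ← hq]
    exact FiniteField.pow_card_pow n x
  let s := Spec.map (CommRingCat.ofHom (algebraMap k₀ K))
  have hs : inv (fm p SK (e * n)) ≫ s = s := by
    rw [IsIso.inv_comp_eq, fm_comp p s, hk, Category.comp_id]
  let G : C ⟶ C := hC.lift πC₀ (πK ≫ inv (fm p SK (e * n))) (by rw [Category.assoc, hs]; exact hC.w)
  refine ⟨G, hC.hom_ext ?_ ?_⟩
  · rw [hFr₀, Category.assoc, hC.lift_fst, fm_comp p πC₀]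
  · rw [hFrK, Category.assoc, hC.lift_snd, reassoc_of% fm_comp p πK, IsIso.hom_inv_id, Category.comp_id]

end Groth.Agent.H27LVCorr
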