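import Groth.Agent.H27LVCorr.Contract
import Groth.Agent.H24FSch.Kernels
import Groth.Agent.H29Blow.Basic
import Mathlib

/-!
# Fixed points near which a correspondence is contracting
-/

set_option autoImplicit false
set_option linter.style.haveILetI false

universe u

open CategoryTheory CategoryTheory.Limits AlgebraicGeometry TopologicalSpace

namespace Groth.Agent.H27LVCorr

theorem isOpen_support_of_pow_le {X : Scheme.{u}} [IsLocallyNoetherian X] (N : X.IdealSheafData) (k : ℕ)
    (h : N ^ k ≤ N ^ (k + 1)) : IsOpen (N.support : Set X) := by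
  rw [isOpen_iff_forall_mem_open]
  intro x hx
  obtain ⟨U, hU, hxU, -⟩ := exists_isAffineOpen_mem_and_subset (X := X) (x := x) (U := ⊤) trivial
  let V : X.affineOpens := ⟨U, hU⟩
  haveI : IsNoetherianRing Γ(X, U) := IsLocallyNoetherian.component_noetherian V
  have hP : N.ideal V ^ k ≤ N.ideal V • N.ideal V ^ k := by
    have := h V
    simp only [Scheme.IdealSheafData.ideal_pow, Pi.pow_apply] at this
    refine this.trans (le_of_eq ?_)
    rw [pow_succ', smul_eq_mul]
  obtain ⟨r, hr1, hr⟩ := Submodule.exists_sub_one_mem_and_smul_eq_zero_of_fg_of_le_smul (N.ideal V)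
    (N.ideal V ^ k) (IsNoetherian.noetherian _) hP
  have hxz : ∀ f ∈ N.ideal V, x ∉ X.basicOpen f := by
    have := (Scheme.IdealSheafData.mem_support_iff_of_mem (U := V) hxU).mp hx
    simpa [Scheme.mem_zeroLocus_iff] using this
  refine ⟨X.basicOpen r, fun y hy => ?_, (X.basicOpen r).2, ?_⟩
  · refine (Scheme.IdealSheafData.mem_support_iff_of_mem (U := V) (X.basicOpen_le r hy)).mpr ?_
    rw [Scheme.mem_zeroLocus_iff]
    intro f hf hyf
    have hz : r * f ^ k = 0 := hr _ (Ideal.pow_mem_pow hf k)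
    rcases Nat.eq_zero_or_pos k with rfl | hk
    · rw [pow_zero, mul_one] at hz
      rw [hz, Scheme.basicOpen_zero] at hy
      exact hy
    · have : y ∈ X.basicOpen (r * f ^ k) := by
        rw [Scheme.basicOpen_mul, X.basicOpen_pow f hk]
        exact ⟨hy, hyf⟩
      rw [hz, Scheme.basicOpen_zero] at this
      exact this
  · by_contra hxr
    have h0 : x ∈ X.basicOpen (1 - r + r : Γ(X, U)) := by simpa using hxU
    have h' := (X.mem_basicOpen (1 - r + r : Γ(X, U)) x hxU).mp h0
    rw [map_add] at h'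
    rcases IsLocalRing.isUnit_or_isUnit_of_isUnit_add h' with h1 | h1
    · exact hxz _ (by rw [← neg_sub]; exact (N.ideal V).neg_mem hr1) ((X.mem_basicOpen _ x hxU).mpr h1)
    · exact hxr ((X.mem_basicOpen _ x hxU).mpr h1)

/-- near the fixed points, the part over an invariant subscheme near which the correspondence is contracting is open -/
theorem isClopen_fix {C X Fx : Scheme.{u}} [IsLocallyNoetherian Fx] (c₁ c₂ : C ⟶ X)
    (i : Fx ⟶ C) (δ : Fx ⟶ X) (h₁ : i ≫ c₁ = δ) (h₂ : i ≫ c₂ = δ)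
    (I : X.IdealSheafData) (W : C.Opens) (hW : Set.range i.base ⊆ (W : Set C))
    (k₀ : ℕ) (hpow : I.comap (W.ι ≫ c₁) ^ k₀ ≤ I.comap (W.ι ≫ c₂) ^ (k₀ + 1)) :
    IsClopen (δ.base ⁻¹' (I.support : Set X)) := by
  let i' := IsOpenImmersion.lift W.ι i (by rwa [Scheme.Opens.range_ι])
  have hi' : i' ≫ W.ι = i := IsOpenImmersion.lift_fac _ _ _
  have e1 : (I.comap (W.ι ≫ c₁)).comap i' = I.comap δ := by
    rw [← Scheme.IdealSheafData.comap_comp, ← Category.assoc, hi', h₁]
  have e2 : (I.comap (W.ι ≫ c₂)).comap i' = I.comap δ := by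
    rw [← Scheme.IdealSheafData.comap_comp, ← Category.assoc, hi', h₂]
  have key : I.comap δ ^ k₀ ≤ I.comap δ ^ (k₀ + 1) := by
    cases k₀ with
    | zero =>
      have := Scheme.IdealSheafData.comap_mono (f := i') hpow
      simp only at this
      rw [H24FSch.comap_pow', e2] at this
      refine le_trans ?_ this
      rw [show I.comap (W.ι ≫ c₁) ^ 0 = ⊤ by ext U : 2; simp, Scheme.IdealSheafData.comap_top]
      exact le_top
    | succ k =>
      have := Scheme.IdealSheafData.comap_mono (f := i') hpow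
      simp only at this
      rw [H24FSch.comap_pow', H24FSch.comap_pow', e1, e2] at this
      exact this
  have hs : δ.base ⁻¹' (I.support : Set X) = ((I.comap δ).support : Set Fx) := by
    rw [Scheme.IdealSheafData.support_comap]
    rfl
  rw [hs]
  exact ⟨(I.comap δ).support.isClosed, isOpen_support_of_pow_le _ k₀ key⟩

variable (p : ℕ) [Fact p.Prime]

theorem comap_ι_radical {C : Scheme.{u}} (W : C.Opens) (J : C.IdealSheafData) :
    (J.comap W.ι).radical = J.radical.comap W.ι := by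
  ext U : 2
  rw [Scheme.IdealSheafData.radical_ideal, Scheme.IdealSheafData.ideal_comap_of_isOpenImmersion,
    Scheme.IdealSheafData.ideal_comap_of_isOpenImmersion, Scheme.IdealSheafData.radical_ideal, Ideal.comap_radical]

theorem comap_ι_hd {C : Scheme.{u}} (W : C.Opens) (J : C.IdealSheafData) (d : ℕ) (hd : J.radical ^ d ≤ J) :
    (J.comap W.ι).radical ^ d ≤ J.comap W.ι := by
  rw [comap_ι_radical]
  cases d with
  | zero =>
    have e : ∀ I : C.IdealSheafData, I ^ 0 = ⊤ := fun I => by ext U : 2; simp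
    rw [e] at hd
    rw [top_le_iff.mp hd, Scheme.IdealSheafData.comap_top]
    exact le_top
  | succ d => rw [← H24FSch.comap_pow']; exact Scheme.IdealSheafData.comap_mono (f := W.ι) hd

/-- the open neighbourhood of the fixed points on which the twisted correspondence is contracting at a closed point -/
theorem exists_contracting_open {C X : Scheme.{u}} [FrobSch.IsCharP C p] (m : ℕ) (G : C ⟶ C) (c₁ c₂ : C ⟶ X)
    [LocallyQuasiFinite c₂] (d : ℕ) (hn : d < p ^ m) (x : X) (hx : IsClosed ({x} : Set X))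
    (hd : ((Scheme.IdealSheafData.vanishingIdeal ⟨{x}, hx⟩).comap c₂).radical ^ d ≤
      (Scheme.IdealSheafData.vanishingIdeal ⟨{x}, hx⟩).comap c₂) :
    ∃ W : C.Opens, (∀ y, ((fm p C m ≫ G) ≫ c₁) y = c₂ y → y ∈ W) ∧
      (Scheme.IdealSheafData.vanishingIdeal ⟨{x}, hx⟩).comap (W.ι ≫ (fm p C m ≫ G) ≫ c₁) ≤
        (Scheme.IdealSheafData.vanishingIdeal ⟨{x}, hx⟩).comap (W.ι ≫ c₂) ∧
      (Scheme.IdealSheafData.vanishingIdeal ⟨{x}, hx⟩).comap (W.ι ≫ (fm p C m ≫ G) ≫ c₁) ^ d ≤
        (Scheme.IdealSheafData.vanishingIdeal ⟨{x}, hx⟩).comap (W.ι ≫ c₂) ^ (d + 1) := by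
  let c := (fm p C m ≫ G) ≫ c₁
  let I := Scheme.IdealSheafData.vanishingIdeal ⟨{x}, hx⟩
  have hB : IsClosed (c₂.base ⁻¹' {x} \ c.base ⁻¹' {x}) := by
    exact isClosed_of_subset_discrete_closed Set.diff_subset (c₂.isDiscrete_preimage_singleton x) (hx.preimage c₂.continuous)
  refine ⟨⟨_, hB.isOpen_compl⟩, fun y hy hyB => hyB.2 ?_, ?_⟩
  · show c y = x
    exact hy.trans hyB.1
  set W : C.Opens := ⟨_, hB.isOpen_compl⟩
  haveI : FrobSch.IsCharP (W : Scheme.{u}) p := FrobSch.IsCharP.of_hom W.ι p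
  have e : W.ι ≫ (fm p C m ≫ G) ≫ c₁ = (fm p (W : Scheme.{u}) m ≫ 𝟙 _) ≫ W.ι ≫ G ≫ c₁ := by
    rw [Category.comp_id, ← Category.assoc (fm p (W : Scheme.{u}) m), fm_comp p W.ι]
    simp only [Category.assoc]
  rw [e]
  refine contracting_of_invariant p m (𝟙 _) (W.ι ≫ G ≫ c₁) (W.ι ≫ c₂) I d ?_ hn ?_
  · rw [Scheme.IdealSheafData.comap_comp]
    exact comap_ι_hd W _ d hd
  · rintro _ ⟨y, hy, rfl⟩
    rw [← e]
    have hs : (I.support : Set X) = {x} := by simp [I]
    rw [hs] at hy ⊢
    have : W.ι y ∉ c₂.base ⁻¹' {x} \ c.base ⁻¹' {x} := y.2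
    by_contra hcon
    exact this ⟨hy, hcon⟩

end Groth.Agent.H27LVCorr
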